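import Mathlib

/-! Signed vertex sums of edge labellings of bipartite graphs. -/

namespace Groth.Agent.CombGraphH28

open Finset SimpleGraph

universe u v
variable {V : Type u} [Fintype V] [DecidableEq V] {A : Type v} [AddCommGroup A] {G : SimpleGraph V} {c : V → Bool}

/-- vertex sums -/
def B (x : Sym2 V → A) (v : V) : A := ∑ e ∈ univ.filter (fun e : Sym2 V => v ∈ e), x e

/-- supported on the edges -/
def Supp (G : SimpleGraph V) (x : Sym2 V → A) : Prop := ∀ e, e ∉ G.edgeSet → x e = 0

def σ (c : V → Bool) (v : V) : ℤ := if c v then 1 else -1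

lemma σ_mul_self (c : V → Bool) (v : V) : σ c v * σ c v = 1 := by unfold σ; split_ifs <;> simp

lemma σ_add (hbip : ∀ v w, G.Adj v w → c v ≠ c w) {v w : V} (h : G.Adj v w) : σ c v + σ c w = 0 := by
  have := hbip v w h
  cases hv : c v <;> cases hw : c w <;> simp_all [σ]

lemma B_eq [DecidableRel G.Adj] {x : Sym2 V → A} (hx : Supp G x) (v : V) :
    ∑ e ∈ G.incidenceFinset v, x e = B x v := by
  refine Finset.sum_subset (fun e he => ?_) fun e he he' => hx e fun h => ?_
  · rw [mem_incidenceFinset] at he; exact mem_filter.2 ⟨mem_univ _, he.2⟩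
  · exact he' ((mem_incidenceFinset _ _ _).2 ⟨h, (mem_filter.1 he).2⟩)

lemma B_add (x y : Sym2 V → A) (v : V) : B (x + y) v = B x v + B y v := by simp [B, sum_add_distrib]

lemma B_sub (x y : Sym2 V → A) (v : V) : B (x - y) v = B x v - B y v := by simp [B, sum_sub_distrib]

lemma B_smul (m : ℤ) (x : Sym2 V → A) (v : V) : B (m • x) v = m • B x v := by simp [B, smul_sum]

lemma B_sum {ι : Type*} (s : Finset ι) (x : ι → Sym2 V → A) (v : V) : B (∑ i ∈ s, x i) v = ∑ i ∈ s, B (x i) v := by
  simp only [B, Finset.sum_apply]; exact sum_comm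

lemma B_smul_const (x : Sym2 V → ℤ) (a : A) (v : V) : B (fun e => x e • a) v = B x v • a := by simp [B, sum_smul]

lemma B_single {u w : V} (h : u ≠ w) (a : A) (v : V) :
    B (Pi.single s(u, w) a) v = Pi.single (M := fun _ => A) u a v + Pi.single (M := fun _ => A) w a v := by
  simp only [B, Finset.sum_filter]
  rw [Finset.sum_eq_single s(u, w)]
  · rcases eq_or_ne v u with rfl | hvu
    · simp [h]
    · rcases eq_or_ne v w with rfl | hvw
      · simp [hvu]
      · simp [hvu, hvw]
  · intro e _ he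
    simp [he]
  · simp

lemma route (hbip : ∀ v w, G.Adj v w → c v ≠ c w) {u w : V} (h : G.Reachable u w) :
    ∃ x : Sym2 V → ℤ, Supp G x ∧ ∀ v, B x v = Pi.single (M := fun _ => ℤ) u (σ c u) v - Pi.single (M := fun _ => ℤ) w (σ c w) v := by
  obtain ⟨p⟩ := h
  induction p with
  | nil => exact ⟨0, fun _ _ => rfl, fun v => by simp [B]⟩
  | @cons a b d hab q ih =>
    obtain ⟨x, hx, hB⟩ := ih
    refine ⟨Pi.single s(a, b) (σ c a) + x, fun e he => ?_, fun v => ?_⟩
    · rw [Pi.add_apply, hx e he, add_zero, Pi.single_eq_of_ne]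
      rintro rfl; exact he hab
    · rw [B_add, B_single hab.ne, hB]
      have := σ_add hbip hab
      rcases eq_or_ne v b with rfl | hv
      · simp [Pi.single_eq_of_ne hab.ne']; omega
      · simp [Pi.single_eq_of_ne hv, sub_eq_add_neg]

theorem exists_labelling (hconn : G.Connected) (hbip : ∀ v w, G.Adj v w → c v ≠ c w) (a : V → A)
    (hsum : ∑ v ∈ univ.filter (fun v => c v = true), a v = ∑ v ∈ univ.filter (fun v => c v = false), a v) :
    ∃ x : Sym2 V → A, Supp G x ∧ ∀ v, B x v = a v := by
  obtain ⟨r⟩ := hconn.nonempty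
  choose x hx hB using fun v => route hbip (hconn.preconnected v r)
  refine ⟨∑ v, fun e => x v e • (σ c v • a v), fun e he => by simp [Finset.sum_apply, hx _ e he], fun w => ?_⟩
  have h0 : ∑ v, σ c v • a v = 0 := by
    rw [← Finset.sum_filter_add_sum_filter_not univ (fun v => c v = true),
      sum_congr rfl (fun v hv => show σ c v • a v = a v by simp [σ, (mem_filter.1 hv).2]),
      sum_congr (rfl : univ.filter (fun v => ¬ c v = true) = _) (fun v hv => show σ c v • a v = - a v by
        simp [σ, (mem_filter.1 hv).2])]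
    rw [sum_neg_distrib, show univ.filter (fun v => ¬ c v = true) = univ.filter (fun v => c v = false) by
      ext; simp, hsum, add_neg_cancel]
  rw [B_sum]
  simp only [B_smul_const, hB, sub_smul, sum_sub_distrib]
  have h1 : ∑ v, Pi.single (M := fun _ => ℤ) r (σ c r) w • σ c v • a v = 0 := by rw [← smul_sum, h0, smul_zero]
  rw [h1, sub_zero, Finset.sum_eq_single w (fun v _ hv => by simp [Pi.single_eq_of_ne (Ne.symm hv)]) (by simp),
    Pi.single_eq_same, ← mul_smul, σ_mul_self, one_smul]

theorem exists_cycle (hbip : ∀ v w, G.Adj v w → c v ≠ c w) {u w : V} (huw : G.Adj u w)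
    (h : (G.deleteEdges {s(u, w)}).Reachable u w) :
    ∃ x : Sym2 V → ℤ, Supp G x ∧ (∀ v, B x v = 0) ∧ x s(u, w) = 1 := by
  obtain ⟨x, hx, hB⟩ := route (G := G.deleteEdges {s(u, w)}) (c := c) (fun v t hvt => hbip v t hvt.1) h
  have hx0 : x s(u, w) = 0 := hx _ (by simp [edgeSet_deleteEdges])
  refine ⟨Pi.single s(u, w) 1 - σ c u • x, fun e he => ?_, fun v => ?_, by simp [hx0]⟩
  · have : x e = 0 := hx e fun h => he (edgeSet_mono (deleteEdges_le _) h)
    rw [Pi.sub_apply, Pi.smul_apply, this, smul_zero, sub_zero, Pi.single_eq_of_ne]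
    rintro rfl; exact he huw
  · rw [B_sub, B_smul, B_single huw.ne, hB]
    have h1 := σ_add hbip huw
    have h2 := σ_mul_self c u
    have h3 : σ c u * σ c w = -1 := by rw [show σ c w = - σ c u by omega, mul_neg, h2]
    rcases eq_or_ne v u with rfl | hv <;> rcases eq_or_ne v w with rfl | hv'
    · exact absurd rfl huw.ne
    · simp [Pi.single_eq_of_ne hv', h2]
    · simp [Pi.single_eq_of_ne hv, h3]
    · simp [Pi.single_eq_of_ne hv, Pi.single_eq_of_ne hv']

theorem exists_hom (hbip : ∀ v w, G.Adj v w → c v ≠ c w) {e₀ : Sym2 V} (he₀ : e₀ ∈ G.edgeSet)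
    (hdel : (G.deleteEdges {e₀}).Connected) :
    ∃ φ : A →+ (Sym2 V → A), (∀ a, Supp G (φ a) ∧ ∀ v, B (φ a) v = 0) ∧ ∀ a, φ a e₀ = a := by
  induction e₀ using Sym2.ind with
  | _ u w =>
    obtain ⟨x, hx, hB, h1⟩ := exists_cycle hbip he₀ (hdel.preconnected u w)
    refine ⟨⟨⟨fun a e => x e • a, by ext; simp⟩, fun a b => by ext; simp [smul_add]⟩, fun a => ⟨fun e he => ?_, fun v => ?_⟩, fun a => ?_⟩
    · show x e • a = 0; rw [hx e he, zero_smul]
    · show B (fun e => x e • a) v = 0; rw [B_smul_const, hB, zero_smul]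
    · show x s(u, w) • a = a; rw [h1, one_smul]

theorem eq_zero_of_isBridge (hbip : ∀ v w, G.Adj v w → c v ≠ c w) {x : Sym2 V → A} (hx : Supp G x)
    (hB : ∀ v, B x v = 0) {u w : V} (huw : G.Adj u w) (hbr : G.IsBridge s(u, w)) : x s(u, w) = 0 := by
  classical
  rw [SimpleGraph.isBridge_iff] at hbr
  set H := G.deleteEdges {s(u, w)}
  have h0 : ∑ v ∈ univ.filter (fun v => H.Reachable u v), σ c v • B x v = 0 := by simp [hB]
  simp only [B, smul_sum, Finset.sum_filter (p := fun e : Sym2 V => _ ∈ e)] at h0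
  rw [sum_comm, Finset.sum_eq_single s(u, w)] at h0
  · rw [Finset.sum_eq_single u] at h0
    · rw [if_pos (Sym2.mem_mk_left _ _)] at h0
      have := congrArg (σ c u • ·) h0
      simpa [← mul_smul, σ_mul_self] using this
    · intro v hv hvu
      rw [if_neg, smul_zero]
      rw [Sym2.mem_iff, not_or]
      exact ⟨hvu, fun e => hbr (e ▸ (mem_filter.1 hv).2)⟩
    · exact fun h => absurd (mem_filter.2 ⟨mem_univ _, Reachable.refl _⟩) h
  · intro e _ he
    induction e using Sym2.ind with
    | _ p q =>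
      by_cases hpq : G.Adj p q
      · have hH : H.Adj p q := (deleteEdges_adj).2 ⟨hpq, by simpa using he⟩
        by_cases hp : H.Reachable u p
        · have hq : H.Reachable u q := hp.trans hH.reachable
          rw [Finset.sum_eq_add p q hpq.ne (fun v _ hv => by rw [if_neg (show v ∉ s(p, q) by rw [Sym2.mem_iff]; tauto), smul_zero])
            (fun h => absurd (mem_filter.2 ⟨mem_univ _, hp⟩) h) (fun h => absurd (mem_filter.2 ⟨mem_univ _, hq⟩) h),
            if_pos (Sym2.mem_mk_left _ _), if_pos (Sym2.mem_mk_right _ _), ← add_smul, σ_add hbip hpq, zero_smul]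
        · refine sum_eq_zero fun v hv => ?_
          rw [if_neg, smul_zero]
          rw [Sym2.mem_iff]
          rintro (rfl | rfl)
          · exact hp (mem_filter.1 hv).2
          · exact hp ((mem_filter.1 hv).2.trans hH.reachable.symm)
      · exact sum_eq_zero fun v _ => by rw [hx _ hpq]; simp
  · exact fun h => absurd (mem_univ _) h

theorem exists_equiv (n : ℕ) : ∀ (G : SimpleGraph V), G.Connected → (∀ v w, G.Adj v w → c v ≠ c w) →
    Nat.card G.edgeSet + 1 = Nat.card V + n →
    ∃ f : (Fin n → A) →+ (Sym2 V → A), Function.Injective f ∧ Set.range f = {x | Supp G x ∧ ∀ v, B x v = 0} := by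
  classical
  induction n with
  | zero =>
    intro G hc hbip hn
    refine ⟨0, fun a b _ => Subsingleton.elim _ _, Set.ext fun x => ?_⟩
    have hT : G.IsTree := isTree_iff_connected_and_card.2 ⟨hc, by simpa using hn⟩
    constructor
    · rintro ⟨a, rfl⟩; exact ⟨fun _ _ => rfl, fun v => by simp [B]⟩
    · rintro ⟨hx, hB⟩
      refine ⟨0, funext fun e => ?_⟩
      induction e using Sym2.ind with
      | _ u w =>
        by_cases h : G.Adj u w
        · exact (eq_zero_of_isBridge hbip hx hB h (isAcyclic_iff_forall_adj_isBridge.1 hT.isAcyclic h)).symm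
        · exact (hx _ h).symm
  | succ n ih =>
    intro G hc hbip hn
    obtain ⟨u, w, huw, hbr⟩ : ∃ u w, G.Adj u w ∧ ¬ G.IsBridge s(u, w) := by
      by_contra hcon; push Not at hcon
      have := (isTree_iff_connected_and_card.1 (⟨hc, isAcyclic_iff_forall_adj_isBridge.2 fun u w h => hcon u w h⟩ : G.IsTree)).2
      omega
    set H := G.deleteEdges {s(u, w)}
    have hH : H.Connected := hc.connected_delete_edge_of_not_isBridge hbr
    obtain ⟨f, hf, hfr⟩ := ih H hH (fun v t h => hbip v t h.1) (by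
      have : Nat.card H.edgeSet + 1 = Nat.card G.edgeSet := by
        rw [show H.edgeSet = G.edgeSet \ {s(u, w)} from edgeSet_deleteEdges _, Nat.card_coe_set_eq, Nat.card_coe_set_eq]
        exact Set.ncard_sdiff_singleton_add_one (show s(u, w) ∈ G.edgeSet from huw)
      omega)
    obtain ⟨φ, hφ, hφ1⟩ := exists_hom (A := A) hbip (e₀ := s(u, w)) huw hH
    have hfm : ∀ b, Supp H (f b) ∧ ∀ v, B (f b) v = 0 := fun b => hfr.subset ⟨b, rfl⟩
    have hf0 : ∀ b, f b s(u, w) = 0 := fun b => (hfm b).1 _ (by simp [H, edgeSet_deleteEdges])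
    let tl : (Fin (n + 1) → A) →+ (Fin n → A) := ⟨⟨Fin.tail, rfl⟩, fun _ _ => rfl⟩
    refine ⟨φ.comp (Pi.evalAddMonoidHom (fun _ => A) 0) + f.comp tl, fun a b hab => ?_, Set.ext fun x => ?_⟩
    · simp only [AddMonoidHom.add_apply, AddMonoidHom.comp_apply, Pi.evalAddMonoidHom_apply] at hab
      have h0 := congrFun hab s(u, w)
      simp only [Pi.add_apply, hφ1, hf0, add_zero] at h0
      rw [h0] at hab
      have h1 : tl a = tl b := hf (add_left_cancel hab)
      exact funext fun i => Fin.cases h0 (fun j => congrFun h1 j) i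
    · constructor
      · rintro ⟨a, rfl⟩
        refine ⟨fun e he => ?_, fun v => ?_⟩
        · show φ (a 0) e + f (tl a) e = 0
          rw [(hφ _).1 e he, (hfm _).1 e (fun h => he (edgeSet_mono (deleteEdges_le _) h)), add_zero]
        · show B (φ (a 0) + f (tl a)) v = 0
          rw [B_add, (hφ _).2, (hfm _).2, add_zero]
      · rintro ⟨hx, hB⟩
        obtain ⟨b, hb⟩ : x - φ (x s(u, w)) ∈ Set.range f := by
          rw [hfr]
          refine ⟨fun e he => ?_, fun v => by rw [B_sub, hB, (hφ _).2, sub_zero]⟩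
          by_cases h : e = s(u, w)
          · simp [h, hφ1]
          · have : e ∉ G.edgeSet := fun h' => he (by simp [H, edgeSet_deleteEdges, h', h])
            simp [hx e this, (hφ _).1 e this]
        refine ⟨Fin.cons (x s(u, w)) b, ?_⟩
        show φ ((Fin.cons (x s(u, w)) b : Fin (n + 1) → A) 0) + f (Fin.tail (Fin.cons (x s(u, w)) b : Fin (n + 1) → A)) = x
        rw [Fin.cons_zero, Fin.tail_cons, hb, add_sub_cancel]

end Groth.Agent.CombGraphH28
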